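import Cfsg.Agent.BS.Def
import Cfsg.Agent.BS.P1c

/- LINKED interface; the statements, proved in the imported files:

variable {G : Type u} [Group G] [Finite G]
theorem SzHyp.exists_suz {H Q : Subgroup G} {t : G} (h : SzHyp H Q t)
    (hrk : ∃ a b : G, a * a = 1 ∧ b * b = 1 ∧ a ≠ 1 ∧ b ≠ 1 ∧ a ≠ b ∧ a * b = b * a) :
    ∃ X : Suz G, X.H = H ∧ X.Q = Q ∧ X.t = t
theorem Suz.tt (X : Suz G) : X.t * X.t = 1
theorem Suz.tinv (X : Suz G) : X.t⁻¹ = X.t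
theorem Suz.tH (X : Suz G) : X.t ∉ X.H
theorem Suz.sdp (X : Suz G) : IsSdp X.Q X.D X.H
theorem Suz.Q_le (X : Suz G) : X.Q ≤ X.H
theorem Suz.D_le (X : Suz G) : X.D ≤ X.H
theorem Suz.odd_D (X : Suz G) : Odd #|X.D|
theorem Suz.odd_orderOf (X : Suz G) {d : G} (hd : d ∈ X.D) : Odd (orderOf d)
theorem Suz.mem_D (X : Suz G) {x : G} : x ∈ X.D ↔ x ∈ X.H ∧ X.t * x * X.t ∈ X.H
theorem Suz.tDt (X : Suz G) {d : G} (hd : d ∈ X.D) : X.t * d * X.t ∈ X.D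
theorem Suz.conj_mem_Q (X : Suz G) {h x : G} (hh : h ∈ X.H) (hx : x ∈ X.Q) : h * x * h⁻¹ ∈ X.Q
theorem Suz.eq_one_of_Q_D (X : Suz G) {x : G} (h1 : x ∈ X.Q) (h2 : x ∈ X.D) : x = 1
-- every element of `Q#` fixes exactly one point 
theorem Suz.mem_H_of_conj (X : Suz G) {y g : G} (hy : y ∈ X.Q) (h1 : y ≠ 1) (h : g * y * g⁻¹ ∈ X.H) : g ∈ X.H
theorem Suz.not_mem_H (X : Suz G) {a b : G} (ha : a ∈ X.H) (hb : b ∈ X.H) : a * X.t * b ∉ X.H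
-- canonical form 
theorem Suz.canon (X : Suz G) {g : G} (hg : g ∉ X.H) :
    ∃ x ∈ X.Q, ∃ d ∈ X.D, ∃ y ∈ X.Q, g = x * d * X.t * y
theorem Suz.canon_unique (X : Suz G) {a a' y y' : G} (ha : a ∈ X.H) (ha' : a' ∈ X.H) (hy : y ∈ X.Q) (hy' : y' ∈ X.Q)
    (h : a * X.t * y = a' * X.t * y') : a = a' ∧ y = y'
theorem Suz.dec_unique (X : Suz G) {x x' d d' : G} (hx : x ∈ X.Q) (hx' : x' ∈ X.Q) (hd : d ∈ X.D) (hd' : d' ∈ X.D)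
    (h : x * d = x' * d') : x = x' ∧ d = d'
theorem Suz.index_H (X : Suz G) : X.H.index = #|X.Q| + 1
theorem Suz.card_G (X : Suz G) : Nat.card G = (#|X.Q| + 1) * #|X.Q| * #|X.D|
theorem Suz.mem_Q_of_two (X : Suz G) {x : G} (hx : x ∈ X.H) {k : ℕ} (h : x ^ 2 ^ k = 1) : x ∈ X.Q
theorem Suz.odd_mul (X : Suz G) {a b : G} (ha : a ∈ X.H) (ha2 : a * a = 1) (ha1 : a ≠ 1) (hb : b ∉ X.H)
    (hb2 : b * b = 1) : Odd (orderOf (a * b))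
-- one class of involutions 
theorem Suz.conj_s (X : Suz G) {a : G} (h2 : a * a = 1) (h1 : a ≠ 1) : ∃ g, g * X.s * g⁻¹ = a
-- involutions outside `H` are conjugate to `t` under `H` 
theorem Suz.conj_t (X : Suz G) {a : G} (h2 : a * a = 1) (h1 : a ∉ X.H) : ∃ h ∈ X.H, h * a * h⁻¹ = X.t
theorem Suz.pair_unique (X : Suz G) {s r : G} (hs : s ∈ X.Q) (hr : r ∈ X.Q)
    (h : X.t * s * X.t = r⁻¹ * X.t * r) : s = X.s ∧ r = X.r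
theorem Suz.mem_Z (X : Suz G) {x : G} : x ∈ X.Z ↔ x ∈ X.Q ∧ x * x = 1
theorem Suz.Z_le (X : Suz G) : X.Z ≤ X.Q
theorem Suz.s_mem_Z (X : Suz G) : X.s ∈ X.Z
theorem Suz.Z_comm (X : Suz G) {z x : G} (hz : z ∈ X.Z) (hx : x ∈ X.Q) : z * x = x * z
theorem Suz.conj_mem_Z (X : Suz G) {h x : G} (hh : h ∈ X.H) (hx : x ∈ X.Z) : h * x * h⁻¹ ∈ X.Z
theorem Suz.mem_K (X : Suz G) {k : G} : k ∈ X.K ↔ k ∈ X.D ∧ X.t * k * X.t = k⁻¹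
theorem Suz.K_le (X : Suz G) : X.K ≤ X.D
theorem Suz.V_le (X : Suz G) : X.V ≤ X.D
theorem Suz.mem_V (X : Suz G) {v : G} : v ∈ X.V ↔ v ∈ X.D ∧ X.t * v * X.t = v
theorem Suz.mem_V' (X : Suz G) {v : G} : v ∈ X.V ↔ v ∈ X.D ∧ v * X.s = X.s * v
theorem Suz.V_comm_r (X : Suz G) {v : G} (hv : v ∈ X.V) : v * X.r = X.r * v
theorem Suz.sdp_D (X : Suz G) : IsSdp X.K X.V X.D
theorem Suz.K_cyclic (X : Suz G) : IsCyclic X.K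
theorem Suz.K_comm (X : Suz G) {k l : G} (hk : k ∈ X.K) (hl : l ∈ X.K) : k * l = l * k
theorem Suz.K_fpf (X : Suz G) {k x : G} (hk : k ∈ X.K) (hx : x ∈ X.Q) (h : k * x = x * k) : k = 1 ∨ x = 1
theorem Suz.K_trans (X : Suz G) {z : G} (hz : z ∈ X.Z) (h1 : z ≠ 1) : ∃ k ∈ X.K, k * X.s * k⁻¹ = z
theorem Suz.card_K (X : Suz G) : #|X.K| + 1 = X.q
theorem Suz.exists_q (X : Suz G) : ∃ n, 2 ≤ n ∧ X.q = 2 ^ n
theorem Suz.mem_W (X : Suz G) {w : G} : w ∈ X.W ↔ w ∈ X.D ∧ ∀ z ∈ X.Z, w * z = z * w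
theorem Suz.nil_Q (X : Suz G) : Group.IsNilpotent X.Q
theorem Suz.mem_core (X : Suz G) {g : G} : g ∈ X.H.normalCore ↔ g ∈ X.D ∧ ∀ x ∈ X.Q, g * x = x * g
theorem Suz.core_eq_bot (X : Suz G) [IsSimpleGroup G] : X.H.normalCore = ⊥
-- a subgroup of `D` with at least three fixed points is conjugate into `V` 
theorem Suz.exists_cj_le_V (X : Suz G) {Y : Subgroup G} (hY : Y ≤ X.D) {y : G} (hy : y ∈ X.Q) (h1 : y ≠ 1)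
    (hc : Y ≤ 𝐂[y]) : ∃ k ∈ X.K, cj k Y ≤ X.V
-- the canonical form of `t z t` for `z ∈ Z#` 
theorem Suz.tzt (X : Suz G) {k : G} (hk : k ∈ X.K) :
    X.t * (k * X.s * k⁻¹) * X.t = (k⁻¹ * X.r⁻¹ * k) * (k⁻¹ * k⁻¹) * X.t * (k⁻¹ * X.r * k)
-- strongly real elements 
theorem Suz.sreal (X : Suz G) {a b : G} (ha : a * a = 1) (hb : b * b = 1) (h : (a * b) * (a * b) ≠ 1) :
    ∃ g, ∃ z ∈ X.Z, z ≠ 1 ∧ g * (a * b) * g⁻¹ = z * X.t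
theorem Suz.odd_cent (X : Suz G) {a b : G} (ha : a * a = 1) (hb : b * b = 1) (h : (a * b) * (a * b) ≠ 1) :
    Odd #|𝐂[a * b]|
theorem Suz.zt_conj (X : Suz G) {z z' g : G} (hz : z ∈ X.Z) (h1 : z ≠ 1) (hz' : z' ∈ X.Z)
    (h : g * (z * X.t) * g⁻¹ = z' * X.t) : ∃ v ∈ X.V, v * z * v⁻¹ = z'
-- an element of `K#` fixes exactly two points 
theorem Suz.K_fix (X : Suz G) {k g : G} (hk : k ∈ X.K) (h1 : k ≠ 1) (h : g * k * g⁻¹ ∈ X.H) :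
    g ∈ X.H ∨ g * X.t ∈ X.H
theorem Suz.ts_conj (X : Suz G) : X.r⁻¹ * (X.t * X.s) * X.r = (X.t * X.s) ^ 2
theorem Suz.r_pow (X : Suz G) (h2 : IsPGroup 2 X.Q) : ∃ m, X.r ^ 2 ^ m = X.s
theorem Suz.exists_fd (X : Suz G) :
    ∃ (F : Type) (_ : Field F) (_ : Fintype F), (2 : F) = 0 ∧ Fintype.card F = X.q ∧ Nonempty (X.Fd F)
theorem Suz.Fd.κ_inj {X : Suz G} {F : Type} [Field F] (c : X.Fd F) : Function.Injective c.κ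
-- `V` acts by field automorphisms 
theorem Suz.Fd.exists_aut {X : Suz G} {F : Type} [Field F] (c : X.Fd F) :
    ∃ σ : X.V →* RingAut F, (∀ (v : X.V) a, (v : G) * c.z a * (v : G)⁻¹ = c.z (σ v a)) ∧
      (∀ (v : X.V) (k l : Fˣ), (l : F) = σ v k → (v : G) * c.κ k * (v : G)⁻¹ = c.κ l) ∧
      ∀ v : X.V, σ v = 1 ↔ (v : G) ∈ X.W
-/
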