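import Cfsg.Agent.BS.I1
import Cfsg.Agent.BS.PC1
import Cfsg.Agent.BS.PC2

/- LINKED interface; the statements, proved in the imported files:

variable {G : Type u} [Group G] [Finite G]
-- Theorem C when `V ≠ 1` 
theorem Suz.thmC (X : Suz G) [IsSimpleGroup G] (hV : X.V ≠ ⊥) : IsPGroup 2 X.Q
-- `Q` abelian, not elementary, and every element of `V#` centralizes only one involution of `Q`: impossible 
theorem Suz.not_abelian (X : Suz G) [IsSimpleGroup G] (h2 : IsPGroup 2 X.Q)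
    (hab : ∀ x ∈ X.Q, ∀ y ∈ X.Q, x * y = y * x) (hne : X.Q ≠ X.Z) (hV1 : X.V ≠ ⊥)
    (hV : ∀ v ∈ X.V, v ≠ 1 → ∀ z ∈ X.Z, v * z = z * v → z = 1 ∨ z = X.s) : False
-/
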