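import Cfsg.Agent.BS.SE1
import Cfsg.Agent.BS.SE8

/- LINKED interface; the statements, proved in the imported files:

variable {G : Type u} [Group G] [Finite G] {Ω : Type v} [MulAction G Ω]
theorem SE.exists_Q (h : SE G Ω) [IsSimpleGroup G] (h4 : Four (⊤ : Subgroup G)) (ih : IH G Ω) (t4 : T4b G Ω)
    {a b : Ω} (hab : a ≠ b) : TwoTr G Ω ∧ ∃ Q, IsSdp Q (st2 G a b) (stabilizer G a)
-/
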