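import Cfsg.Agent.BS.I1
import Cfsg.Agent.BS.PSuzB

/- LINKED interface; the statements, proved in the imported files:

variable {G : Type u} [Group G] [Finite G]
-- structure of `Q` (no faithfulness needed) 
theorem Suz.struct (X : Suz G) : X.Struct
theorem Suz.invClos_simple (X : Suz G) (hc : X.H.normalCore = ⊥) :
    (invClos G).Normal ∧ X.Q ≤ invClos G ∧ X.K ≤ invClos G ∧ X.t ∈ invClos G ∧ Odd (invClos G).index ∧
      IsSimpleGroup (invClos G) ∧ ∀ N : Subgroup G, N.Normal → N ≠ ⊥ → invClos G ≤ N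
-- the restriction to a subgroup containing `Q` and `t` 
theorem Suz.exists_restrict (X : Suz G) {L : Subgroup G} (hQ : X.Q ≤ L) (ht : X.t ∈ L) :
    ∃ Y : Suz L, Y.H = X.H.subgroupOf L ∧ Y.Q = X.Q.subgroupOf L ∧ (Y.t : G) = X.t ∧ (Y.s : G) = X.s ∧
      (Y.r : G) = X.r
theorem Suz.isBender (X : Suz G) [IsSimpleGroup G] : IsBenderGroup G
-- Suzuki's theorem 
theorem suzuki {H Q : Subgroup G} {t : G} (h : SzHyp H Q t) (hc : H.normalCore = ⊥)
    (hrk : ∃ a b : G, a * a = 1 ∧ b * b = 1 ∧ a ≠ 1 ∧ b ≠ 1 ∧ a ≠ b ∧ a * b = b * a) :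
    IsPGroup 2 Q ∧ (invClos G).Normal ∧ Q ≤ invClos G ∧ Odd (invClos G).index ∧ IsSimpleGroup (invClos G) ∧
      IsBenderGroup (invClos G)
-/
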