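import Cfsg.Agent.BS.SE0
import Cfsg.Agent.BS.T4E

/- LINKED interface; the statements, proved in the imported files:

variable {G : Type u} [Group G] [Finite G] {Ω : Type v} [MulAction G Ω]
theorem SE.t4b (h : SE G Ω) [IsSimpleGroup G] (h4 : Four (⊤ : Subgroup G)) (ih : IH G Ω) : T4b G Ω
-/
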